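import Cfsg.Agent.H115.HC.RankTwo
import Cfsg.Agent.H35.ExcIdx
import Cfsg.Agent.H554.RG

/-!
# Root group data of type `G₂`: the characters induced from the parabolic subgroup of the node `1` (helper501, S4844)

The mirror image of `H115.HC.RankTwo` (node `0`): `w ∉ W_{1}` with `w α_1 = α_1` is `v = s_0 s_1 s_0 s_1 s_0`.
-/

set_option autoImplicit false

open scoped ComplexConjugate
open Cfsg

namespace Cfsg.Agent.H501.PSq

open CoxeterSystem Cfsg.Agent.ChevalleyStructure.CoxeterGeom Cfsg.Agent.Tits.Roots Cfsg.Agent.Tits.Core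
  Cfsg.Agent.Tits.Exchange Cfsg.Agent.Nodes.Reps Cfsg.Agent.Nodes.BNOf Cfsg.Agent.Nodes.StabComb
  Cfsg.Agent.Nodes.Bruhat Cfsg.Agent.Nodes.OppDec Cfsg.Agent.Nodes.LeviDec Cfsg.Agent.H53.HC
  Cfsg.Agent.LieRecognition.RankOneAbstract Cfsg.Agent.Characters Cfsg.Agent.H115.HC

variable {W Y : Type*} [Group W] [Group Y] {M : CoxeterMatrix (Fin 2)}
  {cs : CoxeterSystem M W} {A : Fin 2 → Fin 2 → ℤ} {h : IsCartan M A} {p : ℕ} {T : Subgroup Y} {n : Fin 2 → Y}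
  {X : (Fin 2 → ℤ) → Subgroup Y}

/-- the reflection word -/
def vv1 (cs : CoxeterSystem M W) : W :=
  cs.simple 0 * cs.simple 1 * cs.simple 0 * (cs.simple 0 * cs.simple 1)⁻¹

theorem rep_eq_of1 [Finite W] {w : W} (hw : w ∉ WJ cs ({1} : Set (Fin 2))) (h0 : rep cs h w (sr 1) = sr 1) :
    rep cs h w (sr 0) = fun k => if k = 1 then A 1 0 else -1 := by
  have hJ : ∀ i : Fin 2, i ∈ ({1} : Set (Fin 2)) ↔ i ≠ 0 := by
    intro i
    fin_cases i <;> simp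
  have hp : Perm cs h ({1} : Set (Fin 2)) w := by
    refine ⟨fun i hi => ⟨1, rfl, ?_⟩, fun i hi => ⟨1, rfl, ?_⟩⟩
    · rw [Set.mem_singleton_iff.1 hi]
      nth_rw 1 [← h0]
      rw [rep_inv_apply]
    · rw [Set.mem_singleton_iff.1 hi, h0]
  have h1 := apply_eq_neg hJ hp hw (sr 0)
  rw [sr_self] at h1
  have h2 := pairing_rep h0 (sr 0)
  rw [sr, pairing_single, mul_one] at h2
  unfold pairing at h2
  rw [Fin.sum_univ_two, h.diag, show (rep cs h w (Pi.single 0 1) : Fin 2 → ℤ) 0 = -1 from h1] at h2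
  funext k
  fin_cases k
  · exact h1
  · change rep cs h w (Pi.single 0 1) 1 = A 1 0
    linarith

/-- the image of a vector under `v` -/
theorem rep_vv1 (hA : A 0 1 * A 1 0 = 3) (x : Fin 2 → ℤ) :
    rep cs h (vv1 cs) x = ![-x 0, x 1 + A 1 0 * x 0] := by
  have e : vv1 cs = cs.simple 0 * (cs.simple 1 * (cs.simple 0 * (cs.simple 1 * cs.simple 0))) := by
    unfold vv1
    rw [mul_inv_rev, cs.inv_simple, cs.inv_simple]
    simp only [mul_assoc]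
  rw [e, rep_mul_apply, rep_mul_apply, rep_mul_apply, rep_mul_apply]
  simp only [rep_zero, rep_one, Matrix.cons_val_zero, Matrix.cons_val_one]
  apply vec_ext
  · linear_combination (-A 0 1 * (A 0 1 * A 1 0 - 1) * x 1 - A 0 1 * A 1 0 * x 0) * hA
  · linear_combination (A 0 1 * A 1 0 * x 1 + A 1 0 * x 0) * hA

/-- For type `G₂` the only element outside `W_{1}` fixing `α_1` is the reflection of `s_0 s_1 α_0`. -/
theorem eq_vv1 [Finite W] (hA : A 0 1 * A 1 0 = 3) {w : W} (hw : w ∉ WJ cs ({1} : Set (Fin 2)))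
    (h0 : rep cs h w (sr 1) = sr 1) : w = vv1 cs := by
  refine eq_of_rep (cs := cs) (h := h) fun i => ?_
  have h1 := rep_eq_of1 hw h0
  rw [rep_vv1 hA]
  fin_cases i
  · change rep cs h w (sr 0) = ![-(sr 0 : Fin 2 → ℤ) 0, (sr 0 : Fin 2 → ℤ) 1 + A 1 0 * (sr 0 : Fin 2 → ℤ) 0]
    rw [h1, sr_zero_eq]
    funext k
    fin_cases k <;> simp
  · change rep cs h w (sr 1) = ![-(sr 1 : Fin 2 → ℤ) 0, (sr 1 : Fin 2 → ℤ) 1 + A 1 0 * (sr 1 : Fin 2 → ℤ) 0]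
    rw [h0, sr_one_eq]
    exact vec_ext (by simp) (by simp)

/-- the root `s_1 s_0 α_1` -/
theorem rep_inv_one (hA : A 0 1 * A 1 0 = 3) :
    rep cs h (cs.simple 0 * cs.simple 1)⁻¹ (sr 1) = ![-A 0 1, 2] := by
  rw [mul_inv_rev, cs.inv_simple, cs.inv_simple, rep_mul_apply, sr_one_eq]
  simp only [rep_zero, rep_one, Matrix.cons_val_zero, Matrix.cons_val_one]
  apply vec_ext
  · ring
  · linear_combination hA

variable (R : RGD cs h p T n X)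

include R

/-- **The big characters for type `G₂`, node `1`.** -/
theorem exists_chi_G2_mul1 [Finite W] [Finite Y] (hG : GG cs h T X = ⊤) (hTc : ∀ a ∈ T, ∀ b ∈ T, a * b = b * a)
    (hA : A 0 1 * A 1 0 = 3) (hU : 2 ≤ Nat.card (X (sr 1))) {a : Y} (ha : a ∈ T) (ha2 : a * a ≠ 1)
    (hinv : (n 0)⁻¹ * a * n 0 = a⁻¹) (hc : ∀ u ∈ X ![-A 0 1, 2], a * u = u * a)
    (hc' : ∀ u ∈ X (-![-A 0 1, 2]), a * u = u * a) :
    ∃ (χ : IrrCharacter Y) (m : ℕ), charDegree (χ : Y → ℂ) = (PJ cs h T X {1}).index * m ∧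
      ∀ ℓ : ℕ, ℓ.Prime → (∃ x ∈ T, orderOf x = ℓ ∧ ∀ u ∈ X (sr 1), x * u = u * x → u = 1) → ℓ ∣ m := by
  have hm : Rp cs R.nsys (cs.simple 0 * cs.simple 1) (n 0 * n 1) :=
    (rp_simple cs R.nsys 0).mul (rp_simple cs R.nsys 1)
  have hy : ∀ u ∈ X (sr 1), (n 0 * n 1)⁻¹ * u * (n 0 * n 1) ∈ X ![-A 0 1, 2] := by
    intro u hu
    have := R.conj_mem' hm (isRoot_sr cs h 1) hu
    rwa [rep_inv_one hA] at this
  have hy' : ∀ u ∈ X (-sr 1), (n 0 * n 1)⁻¹ * u * (n 0 * n 1) ∈ X (-![-A 0 1, 2]) := by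
    intro u hu
    have := R.conj_mem' hm (isRoot_sr cs h 1).neg hu
    rwa [map_neg, rep_inv_one hA] at this
  have hzT : (n 0 * n 1) * a * (n 0 * n 1)⁻¹ ∈ T := by
    have h1 := (mem_normalizer_iff_cj.1 hm.mem_normalizer)
    have h2 : (n 0 * n 1) * a * (n 0 * n 1)⁻¹ ∈ cj (n 0 * n 1) T := conj_mem_cj.2 ha
    rwa [h1] at h2
  have hconj : ∀ u, a * ((n 0 * n 1)⁻¹ * u * (n 0 * n 1)) = ((n 0 * n 1)⁻¹ * u * (n 0 * n 1)) * a →
      (n 0 * n 1) * a * (n 0 * n 1)⁻¹ * u = u * ((n 0 * n 1) * a * (n 0 * n 1)⁻¹) := by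
    intro u hu
    calc (n 0 * n 1) * a * (n 0 * n 1)⁻¹ * u =
          (n 0 * n 1) * (a * ((n 0 * n 1)⁻¹ * u * (n 0 * n 1))) * (n 0 * n 1)⁻¹ := by group
      _ = (n 0 * n 1) * (((n 0 * n 1)⁻¹ * u * (n 0 * n 1)) * a) * (n 0 * n 1)⁻¹ := by rw [hu]
      _ = _ := by group
  have hz : (n 0 * n 1) * a * (n 0 * n 1)⁻¹ ∈ CT T X 1 :=
    mem_CT.2 ⟨hzT, fun u hu => hconj u (hc _ (hy u hu)), fun u hu => hconj u (hc' _ (hy' u hu))⟩
  refine exists_chi_inv_mul R hG hTc 1 hU hz ?_ ?_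
  · intro h1
    apply ha2
    have h2 : (n 0 * n 1) * (a * a) * (n 0 * n 1)⁻¹ = 1 := by
      rw [← h1]
      group
    rwa [mul_inv_eq_one, mul_eq_left] at h2
  · intro w g hg hw hwi
    have hwv := eq_vv1 hA hw hwi
    subst hwv
    have hg1 : Rp cs R.nsys (vv1 cs) ((n 0 * n 1) * n 0 * (n 0 * n 1)⁻¹) :=
      (hm.mul (rp_simple cs R.nsys 0)).mul hm.inv
    have ht := hg1.unique hg
    set m := n 0 * n 1 with hm0
    set t := (m * n 0 * m⁻¹)⁻¹ * g with ht0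
    have e : g = m * n 0 * m⁻¹ * t := by rw [ht0]; group
    have e1 : (m * n 0 * m⁻¹)⁻¹ * (m * a * m⁻¹) * (m * n 0 * m⁻¹) = (m * a * m⁻¹)⁻¹ := by
      calc (m * n 0 * m⁻¹)⁻¹ * (m * a * m⁻¹) * (m * n 0 * m⁻¹) = m * ((n 0)⁻¹ * a * n 0) * m⁻¹ := by group
        _ = _ := by rw [hinv]; group
    have e2 := hTc _ (inv_mem hzT) _ ht
    calc g⁻¹ * (m * a * m⁻¹) * g = t⁻¹ * ((m * n 0 * m⁻¹)⁻¹ * (m * a * m⁻¹) * (m * n 0 * m⁻¹)) * t := by
          rw [e]; group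
      _ = t⁻¹ * ((m * a * m⁻¹)⁻¹ * t) := by rw [e1, mul_assoc]
      _ = t⁻¹ * (t * (m * a * m⁻¹)⁻¹) := by rw [e2]
      _ = _ := by group

end Cfsg.Agent.H501.PSq
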