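import Cfsg.Agent.H83.Eight.TwD4
import Cfsg.Agent.H115.HC.Four
import Cfsg.Agent.H696.PSq.Defs

/-!
# `³D₄(q)`: a degree divisible by `p ^ 2`, `p` odd, unless `5 ≤ p ∣ q ^ 3 - 1` (helper501, S4844)
-/

set_option autoImplicit false

open Cfsg Cfsg.Lie

namespace Cfsg.Agent.H501.PSq

open Cfsg.Agent.H33

/-- `p ^ 2` divides a product with a factor prime to `p` -/
theorem sq_dvd_of {p a b : ℕ} (hp : p.Prime) (ha : ¬ p ∣ a) (h : p ^ 2 ∣ a * b) : p ^ 2 ∣ b :=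
  (Nat.Coprime.pow_left 2 ((Nat.Prime.coprime_iff_not_dvd hp).2 ha)).dvd_of_dvd_mul_left h

theorem td_factor {q P : ℕ} (hq : 1 ≤ q) (hP : P + q ^ 2 = q ^ 4 + 1) :
    q ^ 12 * (q ^ 2 - 1) * (q ^ 6 - 1) * (q ^ 8 + q ^ 4 + 1) =
      q ^ 12 * ((q - 1) * ((q ^ 3 - 1) * ((q ^ 2 + q + 1) * ((q + 1) * ((q ^ 3 + 1) * ((q * (q - 1) + 1) * P)))))) := by
  obtain ⟨k, rfl⟩ := Nat.exists_eq_add_of_le hq
  have hP' : P = (1 + k) ^ 2 * (k ^ 2 + 2 * k) + 1 := by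
    have : (1 + k) ^ 4 = (1 + k) ^ 2 + (1 + k) ^ 2 * (k ^ 2 + 2 * k) := by ring
    omega
  rw [show (1 + k) ^ 2 - 1 = k * (k + 2) from Nat.sub_eq_of_eq_add (by ring),
    show (1 + k) ^ 3 - 1 = k * (k ^ 2 + 3 * k + 3) from Nat.sub_eq_of_eq_add (by ring),
    show (1 + k) ^ 6 - 1 = k * (k + 2) * ((k + 1) ^ 4 + (k + 1) ^ 2 + 1) from Nat.sub_eq_of_eq_add (by ring),
    Nat.add_sub_cancel_left, hP']
  ring

theorem dvd_cube_sub {q : ℕ} (hq : 1 ≤ q) : q - 1 ∣ q ^ 3 - 1 ∧ q ^ 2 + q + 1 ∣ q ^ 3 - 1 := by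
  obtain ⟨k, rfl⟩ := Nat.exists_eq_add_of_le hq
  rw [show (1 + k) ^ 3 - 1 = k * (k ^ 2 + 3 * k + 3) from Nat.sub_eq_of_eq_add (by ring), Nat.add_sub_cancel_left]
  exact ⟨Dvd.intro _ rfl, ⟨k, by ring⟩⟩

theorem dvd_cube_add {q : ℕ} (hq : 1 ≤ q) : q + 1 ∣ q ^ 3 + 1 ∧ q * (q - 1) + 1 ∣ q ^ 3 + 1 := by
  obtain ⟨k, rfl⟩ := Nat.exists_eq_add_of_le hq
  rw [Nat.add_sub_cancel_left]
  exact ⟨⟨(1 + k) * k + 1, by ring⟩, ⟨2 + k, by ring⟩⟩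

variable {K : Type} [Field K] [Fintype K] {q : ℕ}

theorem exists_char (hq : IsPrimePow q) (hK : Fintype.card K = q ^ 3) : ∃ r f : ℕ, r.Prime ∧ CharP K r ∧ 0 < f ∧
    q = r ^ f := by
  obtain ⟨r, f, hr, hf, hqf⟩ := id hq
  have hr := hr.nat_prime
  refine ⟨r, f, hr, ?_, hf, hqf.symm⟩
  obtain ⟨p, hch⟩ := CharP.exists K
  obtain ⟨⟨k, hk⟩, hpp, hcard⟩ := FiniteField.card K p
  have h1 : p ∣ r ^ (f * 3) := by
    rw [pow_mul, hqf, ← hK, hcard]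
    exact dvd_pow_self p hk.ne'
  have h2 := (Nat.prime_dvd_prime_iff_eq hpp hr).1 (hpp.dvd_of_dvd_pow h1)
  rwa [h2] at hch

theorem td_char (hq : IsPrimePow q) (hK : Fintype.card K = q ^ 3) {p : ℕ} [hp : Fact p.Prime]
    (hd : p ^ 2 ∣ Nat.card ↥(twistedD4 K q)) (hpq : p ∣ q) : IM (p ^ 2) ↥(twistedD4 K q) := by
  obtain ⟨r, f, hr, hch, hf, hqf⟩ := exists_char hq hK
  have hrp : p = r := by
    rw [hqf] at hpq
    exact (Nat.prime_dvd_prime_iff_eq hp.1 hr).1 (hp.1.dvd_of_dvd_pow hpq)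
  subst hrp
  obtain ⟨χ, hχ, h1⟩ := H167.SteinbergRGD.steinberg_of_hasRGD (Nodes.RGDTwD4.hasRGD hq hK p)
  have Q : Sylow p ↥(twistedD4 K q) := default
  exact IM.of_apply_one hχ (h1 Q).1 (Q.pow_dvd_card_of_pow_dvd_card hd)

theorem not_dvd_two {p : ℕ} (hp : p.Prime) (hp2 : p ≠ 2) : ¬ p ∣ 2 := fun h =>
  hp2 ((Nat.prime_dvd_prime_iff_eq hp Nat.prime_two).1 h)

/-- **`³D₄(q)`, all odd `p` except `5 ≤ p ∣ q ^ 3 - 1`.** -/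
theorem td_easy (hq : IsPrimePow q) (hK : Fintype.card K = q ^ 3) {p : ℕ} [hp : Fact p.Prime] (hp2 : p ≠ 2)
    (hd : p ^ 2 ∣ Nat.card ↥(twistedD4 K q)) (h3 : p = 3 ∨ ¬ p ∣ q ^ 3 - 1) :
    IM (p ^ 2) ↥(twistedD4 K q) := by
  classical
  by_cases hpq : p ∣ q
  · exact td_char hq hK hd hpq
  have hq1 : 1 ≤ q := hq.one_lt.le
  obtain ⟨P, hP⟩ : ∃ P, P + q ^ 2 = q ^ 4 + 1 := ⟨q ^ 4 + 1 - q ^ 2, by
    have : q ^ 2 ≤ q ^ 4 := Nat.pow_le_pow_right hq.pos (by norm_num)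
    omega⟩
  obtain ⟨⟨d2, h2⟩, ⟨d3, hd3⟩⟩ := H83.Eight.TwD4.exists_half q P
  obtain ⟨-, ⟨χ2, m2⟩, ⟨χ3, m3⟩, -⟩ := H83.Eight.TwD4.unip hq hK hP h2 hd3
  have h2' := not_dvd_two hp.1 hp2
  -- `p ∣ q ^ 3 + 1`
  by_cases hp3 : p ∣ q ^ 3 + 1
  · refine ⟨χ3, ?_⟩
    rw [m3]
    refine sq_dvd_of hp.1 h2' ?_
    rw [hd3]
    exact (pow_dvd_pow_of_dvd hp3 2).mul_left _
  rw [S1067.result hq hK, td_factor hq1 hP] at hd
  replace hd := sq_dvd_of hp.1 (fun h => hpq (hp.1.dvd_of_dvd_pow h)) hd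
  by_cases hpe : p = 3
  · subst hpe
    obtain ⟨χ, m, h5, h6, -⟩ := H115.HC.TwDFour.char_all hq hK
    refine ⟨χ, ?_⟩
    rw [h5]
    have hm3 : q % 3 = 1 := by
      have h1 : q % 3 = 0 ∨ q % 3 = 1 ∨ q % 3 = 2 := by omega
      rcases h1 with h1 | h1 | h1
      · exact absurd (Nat.dvd_of_mod_eq_zero h1) hpq
      · exact h1
      · exfalso
        apply hp3
        simp [Nat.dvd_iff_mod_eq_zero, Nat.add_mod, Nat.pow_mod, h1]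
    have h3E : 3 ∣ q ^ 8 + q ^ 4 + 1 := by
      simp [Nat.dvd_iff_mod_eq_zero, Nat.add_mod, Nat.pow_mod, hm3]
    have h7 : 3 ∣ m := h6 3 Nat.prime_three (by norm_num) (by omega)
    rw [sq]
    exact Nat.mul_dvd_mul (h3E.mul_left _) h7
  have h31 := h3.resolve_left hpe
  obtain ⟨e1, e2⟩ := dvd_cube_sub hq1
  obtain ⟨e3, e4⟩ := dvd_cube_add hq1
  replace hd := sq_dvd_of hp.1 (fun h => h31 (h.trans e1)) hd
  replace hd := sq_dvd_of hp.1 h31 hd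
  replace hd := sq_dvd_of hp.1 (fun h => h31 (h.trans e2)) hd
  replace hd := sq_dvd_of hp.1 (fun h => hp3 (h.trans e3)) hd
  replace hd := sq_dvd_of hp.1 hp3 hd
  replace hd := sq_dvd_of hp.1 (fun h => hp3 (h.trans e4)) hd
  refine ⟨χ2, ?_⟩
  rw [m2]
  refine sq_dvd_of hp.1 h2' ?_
  rw [h2]
  exact hd.mul_left _

end Cfsg.Agent.H501.PSq
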