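import Cfsg.Agent.H501.PSq.NodeOne
import Cfsg.Agent.H501.PSq.TdA

/-!
# `³D₄(q)`, `q ≥ 4`: a degree divisible by `p ^ 2` for `5 ≤ p ∣ q ^ 2 + q + 1` (helper501, S4844)

Harish-Chandra induction from the parabolic subgroup of the node `1` (root group of order `q ^ 3`).
-/

set_option autoImplicit false
set_option linter.unusedSectionVars false

open Cfsg

namespace Cfsg.Agent.H501.PSq

open CoxeterSystem Cfsg.Agent.ChevalleyStructure.CoxeterGeom Cfsg.Agent.Tits.Roots Cfsg.Agent.Tits.Core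
  Cfsg.Agent.Tits.RootComb Cfsg.Agent.Nodes.Comb Cfsg.Agent.Nodes.Reps Cfsg.Agent.Nodes.BNOf
  Cfsg.Agent.Nodes.BNOf.RGD Cfsg.Agent.Nodes.RGDChev Cfsg.Agent.Nodes.RGDFold
open Cfsg.Agent.Nodes.Bruhat Cfsg.Agent.Nodes.LeviDec
open Cfsg.Lie Cfsg.Agent.ChevalleyStructure Cfsg.Agent.ChevalleyStructure.TwistedU
open Cfsg.Agent.Nodes.RGDFoldSL
open Cfsg.Agent.ChevalleyStructure.SL2Hom (up lo mem_closure_SL2)
open Cfsg.Agent.BiChar.TwDFour Cfsg.Agent.H115.HC.TwDFour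

theorem cls_12 : ∀ k < chevD4.nroots, (V chevD4 Nodes.RGDTwD4.J k = ![1, 2] ↔ k ∈ [21, 17, 20]) := by decide +kernel

theorem cls_12' : ∀ k < chevD4.nroots, (V chevD4 Nodes.RGDTwD4.J k = -![1, 2] ↔ k ∈ [2, 3, 6]) := by decide +kernel

theorem tab14 : chevD4.simple 1 = 14 ∧ 1 < chevD4.rank ∧ (∀ r ∈ [21, 17, 20, 2, 3, 6], r < chevD4.nroots ∧ chevD4.cartan 1 r = 0) ∧
    18 < chevD4.nroots ∧ chevD4.cartan 1 18 = -1 := by decide +kernel

variable {K : Type} [Field K] {q : ℕ} {φ : K →+* K}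

/-- `h_14(c)` commutes with the root elements of the roots `r` orthogonal to `14` -/
theorem hG14_comm {c : K} (hc : c ≠ 0) {A : List ℕ} (hA : ∀ r ∈ A, r ∈ [21, 17, 20, 2, 3, 6])
    {x : GL chevD4.Idx K} (hx : x ∈ rspan (Elts.xG (F := K) Nodes.RGDTwD4.hp.inList) {k | k ∈ A}) :
    Elts.hG Nodes.RGDTwD4.hp.inList 14 c * x = x * Elts.hG Nodes.RGDTwD4.hp.inList 14 c := by
  have h1 : rspan (Elts.xG (F := K) Nodes.RGDTwD4.hp.inList) {k | k ∈ A} ≤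
      Subgroup.centralizer {Elts.hG Nodes.RGDTwD4.hp.inList 14 c} := by
    refine (Subgroup.closure_le _).2 ?_
    rintro _ ⟨r, hr, t, rfl⟩
    rw [SetLike.mem_coe, Subgroup.mem_centralizer_singleton_iff]
    obtain ⟨s1, r1, h2, -, -⟩ := tab14
    obtain ⟨h3, h4⟩ := h2 r (hA r hr)
    have h5 := ETable.Exc.hG_comm_xG Nodes.RGDTwD4.hp.inList r1 h3 hc (by rw [h4, zpow_zero]) t
    rw [s1] at h5
    exact h5.symm
  exact (Subgroup.mem_centralizer_singleton_iff.1 (h1 hx)).symm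

section

variable (hφ : ∀ x, φ x = x ^ q) (hle : twistedD4 K q ≤ D4Fixed.fix φ)

theorem Ph0_comm {c : Fx φ ((Nodes.RGDTwNode.D4.rest 0).length + 1)} (hc : c ≠ 0) {z : Fin 2 → ℤ} {A : List ℕ}
    (hz : ∀ k < chevD4.nroots, (V chevD4 Nodes.RGDTwD4.J k = z ↔ k ∈ A)) (hA : ∀ r ∈ A, r ∈ [21, 17, 20, 2, 3, 6])
    {u : ↥(twistedD4 K q)} (hu : u ∈ Nodes.RGDTwD4.X φ q z) :
    Ph hφ hle 0 (hS c) * u = u * Ph hφ hle 0 (hS c) := by
  have hu' : (u : GL chevD4.Idx K) ∈ R chevD4 Nodes.RGDTwD4.hp K Nodes.RGDTwD4.J (D4Fixed.sig φ) z :=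
    Subgroup.mem_subgroupOf.1 hu
  rw [R_eq hz (fun k hk => (tab14.2.2.1 k (hA k hk)).1)] at hu'
  apply Subtype.ext
  rw [Subgroup.coe_mul, Subgroup.coe_mul, coe_hS0]
  exact hG14_comm (fun h => hc (Subtype.ext h)) hA hu'.1

/-- `Ph 0 (hS c) ^ 2 ≠ 1` for `c ^ 2 ≠ 1` -/
theorem Ph0_sq {c : Fx φ ((Nodes.RGDTwNode.D4.rest 0).length + 1)} (hc : c ≠ 0) (hc2 : (c : K) ^ 2 ≠ 1) :
    Ph hφ hle 0 (hS c) * Ph hφ hle 0 (hS c) ≠ 1 := by
  intro h1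
  have h2 := congrArg (Subtype.val : ↥(twistedD4 K q) → GL chevD4.Idx K) h1
  rw [Subgroup.coe_mul, coe_hS0, Subgroup.coe_one] at h2
  have hc0 : (c : K) ≠ 0 := fun h => hc (Subtype.ext h)
  obtain ⟨s1, r1, -, h3, h4⟩ := tab14
  have h5 : ∀ t : K, Elts.hG Nodes.RGDTwD4.hp.inList 14 (c : K) * Elts.xG Nodes.RGDTwD4.hp.inList 18 t =
      Elts.xG Nodes.RGDTwD4.hp.inList 18 ((c : K)⁻¹ * t) * Elts.hG Nodes.RGDTwD4.hp.inList 14 (c : K) := by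
    intro t
    have := ETable.Exc.hG_xG Nodes.RGDTwD4.hp.inList r1 h3 hc0 t
    rwa [s1, h4, zpow_neg, zpow_one] at this
  have h6 : Elts.hG Nodes.RGDTwD4.hp.inList 14 (c : K) * Elts.hG Nodes.RGDTwD4.hp.inList 14 (c : K) *
      Elts.xG Nodes.RGDTwD4.hp.inList 18 1 = Elts.xG Nodes.RGDTwD4.hp.inList 18 ((c : K)⁻¹ * ((c : K)⁻¹ * 1)) *
      (Elts.hG Nodes.RGDTwD4.hp.inList 14 (c : K) * Elts.hG Nodes.RGDTwD4.hp.inList 14 (c : K)) := by
    rw [mul_assoc, h5, ← mul_assoc, h5, mul_assoc]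
  rw [h2, one_mul, mul_one] at h6
  have h7 := Elts.xG_injective Nodes.RGDTwD4.hp.inList h3 h6
  apply hc2
  have h8 : (c : K) * (c : K) * ((c : K)⁻¹ * ((c : K)⁻¹ * 1)) = 1 := by field_simp
  rw [← h7, mul_one] at h8
  rw [sq, h8]

end

variable [Fintype K]

/-- the index of the parabolic subgroup of the node `1` -/
theorem index_eq1 {p : ℕ} [Fact p.Prime] [CharP K p] (hφ : ∀ x, φ x = x ^ q)
    (hle : twistedD4 K q ≤ D4Fixed.fix φ) (hq : IsPrimePow q) (hK : Fintype.card K = q ^ 3) :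
    (PJ cs Nodes.RGDTwD4.isCartan (Nodes.RGDTwD4.T K q) (Nodes.RGDTwD4.X φ q) {1}).index =
      (q + 1) * (q ^ 8 + q ^ 4 + 1) := by
  have : Finite CoxeterMatrix.G₂.Group := Nodes.RGDChev.finite_W Cfsg.Agent.BiChar.GTwo.isType cs
  have R := Nodes.RGDTwD4.rgd (K := K) cs hK hφ p
  have hpp : p.Prime := Fact.out
  obtain ⟨f, hf, hqf⟩ : ∃ f, f ≠ 0 ∧ q = p ^ f := by
    obtain ⟨p', k, hp', hk, e⟩ := hq
    obtain ⟨m, -, hm⟩ := FiniteField.card K p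
    have h1 : p' = p := by
      have h2 : p' ∣ p ^ (m : ℕ) := by
        rw [← hm, hK, ← e]
        exact dvd_pow (dvd_pow_self p' hk.ne') (by norm_num)
      exact (Nat.prime_dvd_prime_iff_eq hp'.nat_prime hpp).1 (hp'.nat_prime.dvd_of_dvd_pow h2)
    exact ⟨k, hk.ne', by rw [← e, h1]⟩
  have hpr : Cfsg.Agent.H35.PoinNum.pr (p ^ f) [2, 6] = (q ^ 2 - 1) * (q ^ 6 - 1) := by
    rw [Cfsg.Agent.H35.PoinNum.pr_cons, Cfsg.Agent.H35.PoinNum.pr_cons, Cfsg.Agent.H35.PoinNum.pr_nil, mul_one, hqf]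
  have hN : Nat.card ↥(PJ cs Nodes.RGDTwD4.isCartan (Nodes.RGDTwD4.T K q) (Nodes.RGDTwD4.X φ q) {1}) =
      (q ^ 3 + 1) * Nat.card ↥(RGD.B cs Nodes.RGDTwD4.isCartan (Nodes.RGDTwD4.T K q) (Nodes.RGDTwD4.X φ q)) := by
    have h1 := Cfsg.Agent.H554.RG.relIndex_B_PJ_singleton R 1
    rw [H83.Eight.TwD4.card_X1 hφ hle hK] at h1
    rw [← h1, mul_comm]
    have h2 := Subgroup.relIndex_mul_relIndex ⊥ _ _ bot_le (B_le_PJ (cs := cs)
      (h := Nodes.RGDTwD4.isCartan) (T := Nodes.RGDTwD4.T K q) (X := Nodes.RGDTwD4.X φ q) (J := {1}))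
    rw [Subgroup.relIndex_bot_left, Subgroup.relIndex_bot_left] at h2
    exact h2.symm
  have hT : 1 * Nat.card (Nodes.RGDTwD4.T K q) = (q - 1) * (q ^ 3 - 1) := by
    rw [one_mul, ← D4H1.card_H1 hq hK hφ]
    exact Nat.card_congr (Subgroup.subgroupOfEquivOfLe inf_le_right).toEquiv
  have h1 := Cfsg.Agent.H35.ExcIdx.index_eq (p := p) R (GG_top hφ hK) hN (d := 1) (b := f * 12)
    (P := Cfsg.Agent.H35.PoinNum.pr (p ^ f) [2, 6] * (q ^ 8 + q ^ 4 + 1)) (by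
      rw [Nat.dvd_one]
      exact hpp.one_lt.ne') hT (by
      rw [one_mul, Cfsg.Agent.S1067.result hq hK, hpr, pow_mul, ← hqf]
      ring) (by
      rw [hpp.dvd_mul, not_or]
      refine ⟨Cfsg.Agent.H35.ExcIdx.not_dvd_pr hpp hf _ (by simp), fun h2 => ?_⟩
      have h3 : p ∣ q := by
        rw [hqf]
        exact dvd_pow_self p hf
      have h4 : p ∣ q ^ 8 + q ^ 4 := dvd_add (dvd_pow h3 (by norm_num)) (dvd_pow h3 (by norm_num))
      exact hpp.one_lt.ne' (Nat.dvd_one.1 ((Nat.dvd_add_right h4).1 h2)))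
  rw [hpr] at h1
  obtain ⟨m, hm⟩ := Nat.exists_eq_add_of_le hq.two_le
  rw [hm] at h1 ⊢
  have e1 : 2 + m - 1 = m + 1 := by omega
  have e2 : (2 + m) ^ 2 - 1 = (m + 1) * (2 + m + 1) := by
    rw [show (2 + m) ^ 2 = (m + 1) * (2 + m + 1) + 1 by ring]
    rfl
  have e3 : (2 + m) ^ 3 - 1 = (m + 1) * ((2 + m) ^ 2 + (2 + m) + 1) := by
    rw [show (2 + m) ^ 3 = (m + 1) * ((2 + m) ^ 2 + (2 + m) + 1) + 1 by ring]
    rfl
  have e6 : (2 + m) ^ 6 - 1 = (m + 1) * (((2 + m) ^ 2 + (2 + m) + 1) * ((2 + m) ^ 3 + 1)) := by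
    rw [show (2 + m) ^ 6 = (m + 1) * (((2 + m) ^ 2 + (2 + m) + 1) * ((2 + m) ^ 3 + 1)) + 1 by ring]
    rfl
  rw [e1, e2, e3, e6] at h1
  have h3 : 0 < ((2 + m) ^ 3 + 1) * ((m + 1) * ((m + 1) * ((2 + m) ^ 2 + (2 + m) + 1))) := by positivity
  apply Nat.eq_of_mul_eq_mul_right h3
  rw [← mul_assoc, h1]
  ring

/-- **The degrees of the characters induced from the parabolic subgroup of the node `1`.** -/
theorem char_one (hq : IsPrimePow q) (h4 : 4 ≤ q) (hK : Fintype.card K = q ^ 3) :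
    ∃ (χ : IrrCharacter ↥(twistedD4 K q)) (m : ℕ),
      charDegree (χ : ↥(twistedD4 K q) → ℂ) = ((q + 1) * (q ^ 8 + q ^ 4 + 1)) * m ∧
        ∀ ℓ : ℕ, ℓ.Prime → ℓ ≠ 2 → ℓ ∣ q ^ 3 - 1 → ℓ ∣ m := by
  classical
  obtain ⟨p, hch⟩ := CharP.exists K
  have : Fact p.Prime := ⟨CharP.char_is_prime K p⟩
  obtain ⟨φ, hφ⟩ := D4Fixed.exists_frob hq hK
  have hle := D4Fixed.twisted_le_fix hK hφ
  have : Finite CoxeterMatrix.G₂.Group := Nodes.RGDChev.finite_W Cfsg.Agent.BiChar.GTwo.isType cs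
  have Rg := Nodes.RGDTwD4.rgd (K := K) cs hK hφ p
  have hcF : Nat.card (Fx φ ((Nodes.RGDTwNode.D4.rest 0).length + 1)) = q := by
    rw [← ChevalleyStructure.D4U.card_fix_field hq.one_lt hK hφ]
    refine Nat.card_congr (Equiv.subtypeEquivRight fun a => ?_)
    rw [mem_Fx]
    exact Iff.rfl
  have hc1 : Nat.card (Fx φ ((Nodes.RGDTwNode.D4.rest 1).length + 1)) = q ^ 3 := by
    rw [← hK, ← Nat.card_eq_fintype_card]
    exact Nat.card_congr (Equiv.subtypeUnivEquiv fun t => mem_Fx_three hK hφ t)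
  -- an element of the torus
  obtain ⟨c, hc0, hc2⟩ : ∃ c : Fx φ ((Nodes.RGDTwNode.D4.rest 0).length + 1), c ≠ 0 ∧ (c : K) ^ 2 ≠ 1 := by
    have hfin : Finite (Fx φ ((Nodes.RGDTwNode.D4.rest 0).length + 1)) := inferInstance
    obtain ⟨g, hg⟩ := IsCyclic.exists_generator (α := (Fx φ ((Nodes.RGDTwNode.D4.rest 0).length + 1))ˣ)
    have h2 : orderOf g = q - 1 := by
      rw [orderOf_eq_card_of_forall_mem_zpowers hg, Nat.card_units, hcF]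
    refine ⟨g, g.ne_zero, fun h4' => ?_⟩
    have h5 : g ^ 2 = 1 := Units.ext (Subtype.ext (by
      rw [Units.val_pow_eq_pow_val, Units.val_one]
      exact h4'))
    have h6 := Nat.le_of_dvd (by norm_num) (orderOf_dvd_of_pow_eq_one h5)
    rw [h2] at h6
    omega
  obtain ⟨χ, m, h1, h2⟩ := exists_chi_G2_mul1 Rg (GG_top hφ hK) T_comm (by decide)
    (by
      rw [H83.Eight.TwD4.card_X1 hφ hle hK]
      calc 2 ≤ q := by omega
        _ ≤ q ^ 3 := Nat.le_self_pow (by norm_num) q) (a := Ph hφ hle 0 (hS c))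
    (Cfsg.Agent.BiChar.TwDFour.Ph_hS hφ hle 0 hc0)
    (Ph0_sq hφ hle hc0 hc2)
    (by
      rw [← Cfsg.Agent.BiChar.TwDFour.Ph_wS hφ hle 0, ← map_inv, ← map_mul, ← map_mul, wS_hS hc0, map_inv])
    (fun u hu => Ph0_comm hφ hle hc0 cls_12 (by decide) hu)
    (fun u hu => Ph0_comm hφ hle hc0 cls_12' (by decide) hu)
  rw [index_eq1 (p := p) hφ hle hq hK] at h1
  refine ⟨χ, m, h1, fun ℓ hℓ h3 h5 => ?_⟩
  refine h2 ℓ hℓ ?_
  have := Fact.mk hℓ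
  have hfin : Finite (Fx φ ((Nodes.RGDTwNode.D4.rest 1).length + 1)) := inferInstance
  have := Fintype.ofFinite (Fx φ ((Nodes.RGDTwNode.D4.rest 1).length + 1))
  obtain ⟨d, hd⟩ := exists_prime_orderOf_dvd_card' (G := (Fx φ ((Nodes.RGDTwNode.D4.rest 1).length + 1))ˣ) ℓ (by
    rwa [Nat.card_units, hc1])
  have hd1 : (d : Fx φ ((Nodes.RGDTwNode.D4.rest 1).length + 1)) ^ 2 ≠ 1 := by
    intro h6
    have h7 : d ^ 2 = 1 := Units.ext (by rw [Units.val_pow_eq_pow_val, h6, Units.val_one])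
    have h8 := orderOf_dvd_of_pow_eq_one h7
    rw [hd] at h8
    exact h3 ((Nat.prime_dvd_prime_iff_eq hℓ Nat.prime_two).1 h8)
  have hne : Ph hφ hle 1 (hS (d : Fx φ ((Nodes.RGDTwNode.D4.rest 1).length + 1))) ≠ 1 := by
    intro h1
    have := free hφ hle d.ne_zero hd1 (t := 1) (by rw [h1, one_mul, mul_one])
    exact one_ne_zero this
  refine ⟨Ph hφ hle 1 (hS (d : Fx φ ((Nodes.RGDTwNode.D4.rest 1).length + 1))),
    Cfsg.Agent.BiChar.TwDFour.Ph_hS hφ hle 1 d.ne_zero, ?_, ?_⟩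
  · refine orderOf_eq_prime ?_ hne
    have h1S : hS (1 : Fx φ ((Nodes.RGDTwNode.D4.rest 1).length + 1)) = 1 := by
      apply Subtype.ext
      rw [coe_hS one_ne_zero, inv_one]
      exact Matrix.one_fin_two.symm
    have key : ∀ k : ℕ, hS (d : Fx φ ((Nodes.RGDTwNode.D4.rest 1).length + 1)) ^ k =
        hS ((d : Fx φ ((Nodes.RGDTwNode.D4.rest 1).length + 1)) ^ k) := by
      intro k
      induction k with
      | zero => rw [pow_zero, pow_zero, h1S]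
      | succ k ih => rw [pow_succ, ih, hS_mul (pow_ne_zero _ d.ne_zero) d.ne_zero, ← pow_succ]
    rw [← map_pow, key, ← Units.val_pow_eq_pow_val, ← hd, pow_orderOf_eq_one, Units.val_one, h1S, map_one]
  · intro u hu huc
    obtain ⟨t, rfl⟩ := (mem_X hφ hle 1 u).1 hu
    have ht := free hφ hle d.ne_zero hd1 huc
    subst ht
    have h0 : (up 0 : Matrix.SpecialLinearGroup (Fin 2) (Fx φ ((Nodes.RGDTwNode.D4.rest 1).length + 1))) = 1 := by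
      apply Subtype.ext
      exact Matrix.one_fin_two.symm
    rw [h0, map_one]

/-- **`³D₄(q)`, `q ≥ 4`, `5 ≤ p ∣ q ^ 2 + q + 1`.** -/
theorem td_phi3_big (hq : IsPrimePow q) (h4 : 4 ≤ q) (hK : Fintype.card K = q ^ 3) {p : ℕ} (hp : p.Prime)
    (hp2 : p ≠ 2) (hd : p ∣ q ^ 2 + q + 1) : H33.IM (p ^ 2) ↥(twistedD4 K q) := by
  obtain ⟨χ, m, h1, h2⟩ := char_one hq h4 hK
  have hm : p ∣ m := h2 p hp hp2 (hd.trans (dvd_cube_sub (by omega)).2)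
  refine ⟨χ, ?_⟩
  rw [h1, sq]
  refine Nat.mul_dvd_mul (Dvd.dvd.mul_left (hd.trans ?_) _) hm
  obtain ⟨k, rfl⟩ := Nat.exists_eq_add_of_le h4
  refine ⟨((4 + k) * (3 + k) + 1) * ((4 + k) ^ 2 * (k ^ 2 + 8 * k + 15) + 1), ?_⟩
  ring

end Cfsg.Agent.H501.PSq
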