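import Cfsg.Agent.H678.CCData
import Cfsg.Agent.H501.PSq.TdA

/-!
# `³D₄(2)`, `p = 7` and `³D₄(3)`, `p = 13` (helper501, S4844)

The relation between the degrees of the nonexceptional characters and the exceptional degree of the CC-subgroup of order
`q ^ 4 - q ^ 2 + 1`: `rel`. Then a finite check.
-/

set_option autoImplicit false
set_option linter.unusedSectionVars false

open Cfsg Cfsg.Lie

namespace Cfsg.Agent.H501.PSq

open Cfsg.Agent.H33
open Cfsg.Agent.Nodes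
open Cfsg.Agent.Characters Cfsg.Agent.Characters.CCBasic Cfsg.Agent.Characters.CCEstimates
  Cfsg.Agent.Characters.CCValues Cfsg.Agent.H678.CCExact

universe u

/-- the degree relation -/
theorem rel {G : Type u} [Group G] [Fintype G] {A : Subgroup G} (hA : IsCC A) (h4 : len A = 4) {s : ℕ} (h3 : 3 ≤ s)
    (hs : s * 4 + 1 = Nat.card A) {χ₂ χ₃ : IrrCharacter G} {e₂ e₃ : ℕ} (d2 : charDegree (χ₂ : G → ℂ) = e₂)
    (d3 : charDegree (χ₃ : G → ℂ) = e₃) (m2 : (Nat.card A : ℤ) ∣ e₂ - 1) (m3 : (Nat.card A : ℤ) ∣ e₃ + 1)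
    (h12 : e₂ ≠ 1) :
    ∃ (d : ℕ) (ε : ℤ), (ε = 1 ∨ ε = -1) ∧ (∃ χ : IrrCharacter G, charDegree (χ : G → ℂ) = d) ∧
      ((s = 3 ∧ (1 : ℤ) + e₂ - e₃ = -2 * (ε * d)) ∨ ((Nat.card A : ℤ) ∣ d - 4 * ε ∧
        ∃ (ψ : IrrCharacter G) (f : ℤ), (f = 1 ∨ f = -1) ∧ (Nat.card A : ℤ) ∣ charDegree (ψ : G → ℂ) - f ∧
          (1 : ℤ) + e₂ - e₃ + f * charDegree (ψ : G → ℂ) = ε * d)) := by
  classical
  have : Finite (IrrCharacter G) := Core.finite_irr
  have := Fintype.ofFinite (IrrCharacter G)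
  obtain ⟨D⟩ := nonempty_ccData hA h4 hs (by omega)
  have hP : (Nat.card A : ℤ) = s * 4 + 1 := by exact_mod_cast hs.symm
  have hs' : (3 : ℤ) ≤ s := by exact_mod_cast h3
  have hε := D.hε
  have hsq := D.sq
  have hsd := D.sd
  have hddvd := D.ddvd
  have hnn : 0 ≤ ∑ ψ : IrrCharacter G, D.f ψ ^ 2 := Finset.sum_nonneg fun _ _ => sq_nonneg _
  push_cast at hsq hddvd
  -- `|c| ≤ 1`
  have hc1 : D.c = 0 ∨ D.c = 1 ∨ D.c = -1 := by
    have h1 : (s : ℤ) * D.c ^ 2 ≤ 4 + 2 * D.ε * D.c := by linarith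
    have h2 : 3 * D.c ^ 2 ≤ (s : ℤ) * D.c ^ 2 := by nlinarith [sq_nonneg D.c]
    have h5 : D.c < 2 ∧ -2 < D.c := by
      rcases hε with h | h <;> rw [h] at h1 <;> constructor <;> nlinarith
    omega
  -- the three known characters
  have hdeg1 : charDegree ((one G : IrrCharacter G) : G → ℂ) = 1 := by
    unfold charDegree
    rw [coe_one, Pi.one_apply]
    simp
  have hnR : ∀ χ : IrrCharacter G, ∀ e : ℤ, (e = 1 ∨ e = -1) →
      (Nat.card A : ℤ) ∣ charDegree (χ : G → ℂ) - e → χ ∉ D.R := by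
    intro χ e he hdv hR
    rw [D.deg χ hR] at hdv
    have h1 := dvd_sub hdv hddvd
    rw [show (D.d : ℤ) - e - ((D.d : ℤ) - (D.ε * 4 + D.c)) = D.ε * 4 + D.c - e by ring] at h1
    have h2 : |D.ε * 4 + D.c - e| < Nat.card A := by
      rw [hP, abs_lt]
      rcases hε with h | h <;> rcases hc1 with h' | h' | h' <;> rcases he with h'' | h'' <;>
        rw [h, h', h''] <;> constructor <;> linarith
    have h5 := Int.eq_zero_of_abs_lt_dvd h1 h2
    rcases hε with h | h <;> rcases hc1 with h' | h' | h' <;> rcases he with h'' | h'' <;>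
      rw [h, h', h''] at h5 <;> norm_num at h5
  have hbig : ∀ χ : IrrCharacter G, D.f χ ^ 2 ≤ 6 := by
    intro χ
    have h1 : D.f χ ^ 2 ≤ ∑ ψ : IrrCharacter G, D.f ψ ^ 2 :=
      Finset.single_le_sum (f := fun ψ : IrrCharacter G => D.f ψ ^ 2) (fun _ _ => sq_nonneg _) (Finset.mem_univ χ)
    have h2 : (0 : ℤ) ≤ s * D.c ^ 2 := by positivity
    rcases hε with h | h <;> rcases hc1 with h' | h' | h' <;> rw [h, h'] at hsq <;> rw [h'] at h2 <;> linarith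
  have hval : ∀ χ : IrrCharacter G, ∀ e : ℤ, (e = 1 ∨ e = -1) →
      (Nat.card A : ℤ) ∣ charDegree (χ : G → ℂ) - e → D.f χ = e := by
    intro χ e he hdv
    have h1 := dvd_sub hdv (D.dvd χ (hnR χ e he hdv))
    rw [sub_sub_sub_cancel_left] at h1
    have h2 := hbig χ
    have h5 : D.f χ ≤ 2 ∧ -2 ≤ D.f χ := by constructor <;> nlinarith
    have h6 : |D.f χ - e| < Nat.card A := by
      rw [hP, abs_lt]
      rcases he with h'' | h'' <;> rw [h''] <;> constructor <;> linarith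
    have h7 := Int.eq_zero_of_abs_lt_dvd h1 h6
    linarith
  have hf1 : D.f (one G) = 1 := hval _ 1 (Or.inl rfl) (by rw [hdeg1]; simp)
  have hf2 : D.f χ₂ = 1 := hval _ 1 (Or.inl rfl) (by rw [d2]; exact m2)
  have hf3 : D.f χ₃ = -1 := hval _ (-1) (Or.inr rfl) (by rw [d3, sub_neg_eq_add]; exact m3)
  have n12 : one G ≠ χ₂ := by
    intro h
    rw [← h, hdeg1] at d2
    exact h12 d2.symm
  have n13 : one G ≠ χ₃ := by
    intro h
    rw [← h, hf1] at hf3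
    norm_num at hf3
  have n23 : χ₂ ≠ χ₃ := by
    intro h
    rw [← h, hf2] at hf3
    norm_num at hf3
  let B : Finset (IrrCharacter G) := {one G, χ₂, χ₃}
  have hB : ∀ g : IrrCharacter G → ℤ, ∑ ψ : IrrCharacter G, g ψ = g (one G) + g χ₂ + g χ₃ + ∑ ψ ∈ Bᶜ, g ψ := by
    intro g
    rw [← Finset.sum_add_sum_compl B g, Finset.sum_insert (by simp [n12, n13]), Finset.sum_pair n23]
    ring
  rw [hB, hf1, hf2, hf3] at hsq
  rw [hB (fun ψ => (charDegree (ψ : G → ℂ) : ℤ) * D.f ψ), hf1, hf2, hf3, hdeg1, d2, d3] at hsd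
  have hnn2 : 0 ≤ ∑ ψ ∈ Bᶜ, D.f ψ ^ 2 := Finset.sum_nonneg fun _ _ => sq_nonneg _
  have hzero : ∀ C : Finset (IrrCharacter G), ∑ ψ ∈ C, D.f ψ ^ 2 = 0 →
      ∑ ψ ∈ C, (charDegree (ψ : G → ℂ) : ℤ) * D.f ψ = 0 := by
    intro C hC
    rw [Finset.sum_eq_zero_iff_of_nonneg (fun _ _ => sq_nonneg _)] at hC
    refine Finset.sum_eq_zero fun ψ hψ => ?_
    rw [(pow_eq_zero_iff (two_ne_zero)).1 (hC ψ hψ), mul_zero]
  have hRne : D.R.Nonempty := by
    rw [← Finset.card_pos, D.hcard]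
    omega
  obtain ⟨ρ, hρ⟩ := hRne
  refine ⟨D.d, D.ε, hε, ⟨ρ, D.deg ρ hρ⟩, ?_⟩
  rcases eq_or_ne D.c 0 with hc0 | hc0
  · right
    rw [hc0] at hsq hsd hddvd
    refine ⟨by rw [show (D.d : ℤ) - 4 * D.ε = D.d - (D.ε * 4 + 0) by ring]; exact hddvd, ?_⟩
    have hsum : ∑ ψ ∈ Bᶜ, D.f ψ ^ 2 = 1 := by linarith
    obtain ⟨ψ, hψB, hψ⟩ : ∃ ψ ∈ Bᶜ, D.f ψ ≠ 0 := by
      by_contra hcon
      push Not at hcon
      rw [Finset.sum_eq_zero fun ψ hψ => by rw [hcon ψ hψ]; ring] at hsum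
      norm_num at hsum
    have hge : 1 ≤ D.f ψ ^ 2 := by
      have : 0 < D.f ψ ^ 2 := by positivity
      omega
    rw [← Finset.add_sum_erase _ _ hψB] at hsum
    have hnn3 : 0 ≤ ∑ ψ ∈ Bᶜ.erase ψ, D.f ψ ^ 2 := Finset.sum_nonneg fun _ _ => sq_nonneg _
    have h1 := hzero (Bᶜ.erase ψ) (by linarith)
    have h2 : D.f ψ ^ 2 = 1 := by linarith
    have hψR : ψ ∉ D.R := fun h => hψ (D.hf0 ψ h)
    refine ⟨ψ, D.f ψ, (mul_self_eq_one_iff.1 (by rw [← sq]; exact h2)), D.dvd ψ hψR, ?_⟩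
    rw [← Finset.add_sum_erase _ _ hψB, h1] at hsd
    push_cast at hsd
    linarith
  · left
    have hcc : D.c ^ 2 = 1 := by rcases hc1 with h | h | h <;> [exact absurd h hc0; rw [h]; rw [h]] <;> norm_num
    have hec : D.ε * D.c = 1 ∨ D.ε * D.c = -1 := by
      rcases hε with h | h <;> rcases hc1 with h' | h' | h' <;> first | exact absurd h' hc0 | (rw [h, h']; norm_num)
    rw [hcc, mul_one] at hsq
    have he1 : D.ε * D.c = 1 := by
      rcases hec with h | h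
      · exact h
      · exfalso
        have : 2 * D.ε * D.c = 2 * (D.ε * D.c) := by ring
        rw [this, h] at hsq
        linarith
    have e2 : 2 * D.ε * D.c = 2 := by linear_combination 2 * he1
    rw [e2] at hsq
    have hs3 : (s : ℤ) = 3 := by linarith
    have h1 := hzero Bᶜ (by linarith)
    have hcε : D.c = D.ε := by
      rcases hε with h | h <;> rw [h] at he1 ⊢ <;> linarith
    refine ⟨by exact_mod_cast hs3, ?_⟩
    rw [h1, hs3, hcε] at hsd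
    push_cast at hsd
    linarith

/-! ### the two groups -/

section group

variable {K : Type} [Field K] [Fintype K] {q : ℕ}

/-- the degree relation of `³D₄(q)` -/
theorem rel_td (hq : IsPrimePow q) (hK : Fintype.card K = q ^ 3) {P s : ℕ} (hP : P + q ^ 2 = q ^ 4 + 1)
    (hs : s * 4 + 1 = P) {e₃ : ℕ} (h3 : 2 * e₃ = q ^ 3 * (q ^ 3 + 1) ^ 2) :
    ∃ (d : ℕ) (ε : ℤ), (ε = 1 ∨ ε = -1) ∧ (∃ χ : IrrCharacter ↥(twistedD4 K q), charDegree (χ : ↥(twistedD4 K q) → ℂ) = d) ∧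
      ((s = 3 ∧ (1 : ℤ) + (q ^ 12 : ℕ) - e₃ = -2 * (ε * d)) ∨ ((P : ℤ) ∣ d - 4 * ε ∧
        ∃ (ψ : IrrCharacter ↥(twistedD4 K q)) (f : ℤ), (f = 1 ∨ f = -1) ∧
          (P : ℤ) ∣ charDegree (ψ : ↥(twistedD4 K q) → ℂ) - f ∧
          (1 : ℤ) + (q ^ 12 : ℕ) - e₃ + f * charDegree (ψ : ↥(twistedD4 K q) → ℂ) = ε * d)) := by
  classical
  obtain ⟨p, hch⟩ := CharP.exists K
  have hpf : Fact p.Prime := ⟨CharP.char_is_prime K p⟩
  have hfin : Finite ↥(twistedD4 K q) := inferInstance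
  have := Fintype.ofFinite ↥(twistedD4 K q)
  obtain ⟨x0, hx0, hx0c, -⟩ := H83.TorD4.exists_x0 hq hK p
  have hPe : P = q ^ 4 - q ^ 2 + 1 := by
    have : q ^ 2 ≤ q ^ 4 := Nat.pow_le_pow_right hq.pos (by norm_num)
    omega
  have hP13 : 13 ≤ P := by
    obtain ⟨k, hk⟩ := Nat.exists_eq_add_of_le hq.two_le
    have h4 : q ^ 4 = q ^ 2 * q ^ 2 := by ring
    have h5 : 4 ≤ q ^ 2 := by
      have := Nat.pow_le_pow_left hq.two_le 2
      omega
    have h6 : q ^ 2 * q ^ 2 ≥ 4 * q ^ 2 := Nat.mul_le_mul_right _ h5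
    omega
  have hcard : Nat.card ↥(Subgroup.zpowers x0) = P := by rw [Nat.card_zpowers, hx0, hPe]
  have hA : IsCC (Subgroup.zpowers x0) := by
    refine ⟨fun h => ?_, hx0c⟩
    rw [h, Subgroup.card_bot] at hcard
    omega
  have hr := Nat.minFac_prime (n := P) (by omega)
  have hrP : P.minFac ∣ P := Nat.minFac_dvd P
  have hr4 : 4 < P.minFac := by
    obtain ⟨h2, h3⟩ := H83.TorD4.prime_ne hr (by rw [← hPe]; exact hrP)
    have h4 := hr.two_le
    have h5 : P.minFac ≠ 4 := by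
      intro h
      rw [h] at hr
      revert hr
      decide
    omega
  have hidx : (Subgroup.zpowers x0).index ≡ 4 [MOD P.minFac] := by
    refine H83.RowD4.index_mod hq.one_lt.le (m := P.minFac) (by rw [← hPe]; exact hrP) ?_
    rw [← S1067.result hq hK, ← hPe, ← hcard, mul_comm]
    exact (Subgroup.zpowers x0).card_mul_index
  have hN := H83.Eight.CC.card_normalizer hA inferInstance hr (by rw [hcard]; exact hrP) hidx (by norm_num) hr4
  have hlen : len (Subgroup.zpowers x0) = 4 := by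
    have h1 := len_mul_card (Subgroup.zpowers x0)
    rw [hN] at h1
    exact Nat.eq_of_mul_eq_mul_right Nat.card_pos h1
  obtain ⟨χ₂, hχ₂⟩ := H83.Eight.TwD4.st hq hK
  obtain ⟨⟨d2, h2⟩, -⟩ := H83.Eight.TwD4.exists_half q P
  obtain ⟨-, -, ⟨χ₃, hχ₃⟩, -⟩ := H83.Eight.TwD4.unip hq hK hP h2 h3
  obtain ⟨r1, r2⟩ := H83.Eight.TwD4.residues hP h3
  have := rel hA hlen (s := s) (by omega) (by rw [hcard]; exact hs) hχ₂ hχ₃
    (by rw [hcard]; push_cast; exact r2) (by rw [hcard]; exact r1)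
    (by
      have h7 : 1 < q ^ 12 := Nat.one_lt_pow (by norm_num) hq.one_lt
      omega)
  rw [hcard] at this
  exact this

theorem chk2 : ∀ i < 13, ∀ j < 5, ∀ k < 3, ∀ e ∈ [(1 : ℤ), -1], ((2 : ℤ) ^ i * 3 ^ j * 7 ^ k - 4 * e) % 13 = 0 →
    (16257024 : ℤ) % (e * (2 ^ i * 3 ^ j * 7 ^ k) - 3773) = 0 → ((2 : ℤ) ^ i * 3 ^ j * 7 ^ k) % 49 = 0 := by
  decide +kernel

theorem chk3 : ∀ i < 7, ∀ j < 13, ∀ k < 3, ∀ l < 3, ∀ e ∈ [(1 : ℤ), -1],
    ((2 : ℤ) ^ i * 3 ^ j * 7 ^ k * 13 ^ l - 4 * e) % 73 = 0 →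
    (281655226944 : ℤ) % (e * (2 ^ i * 3 ^ j * 7 ^ k * 13 ^ l) - 520858) = 0 →
    ((2 : ℤ) ^ i * 3 ^ j * 7 ^ k * 13 ^ l) % 169 = 0 := by
  decide +kernel

theorem dvd_of_im {G : Type u} [Group G] [Finite G] (χ : IrrCharacter G) : charDegree (χ : G → ℂ) ∣ Nat.card G :=
  IM.dvd_card (p := charDegree (χ : G → ℂ)) ⟨χ, dvd_rfl⟩

/-- a divisor of `N P` congruent to `m ≠ 0` modulo the prime `P` divides `N` -/
theorem dvd_of_cong {d N P : ℕ} (hP : P.Prime) {m : ℤ} (h0 : m ≠ 0) (hm : |m| < P) (h : d ∣ P * N)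
    (hd : (P : ℤ) ∣ d - m) : d ∣ N := by
  have h1 : ¬ P ∣ d := by
    intro h2
    have h3 : (P : ℤ) ∣ d := Int.natCast_dvd_natCast.2 h2
    have h4 := dvd_sub h3 hd
    rw [sub_sub_cancel] at h4
    exact h0 (Int.eq_zero_of_abs_lt_dvd h4 hm)
  exact (Nat.Coprime.symm ((Nat.Prime.coprime_iff_not_dvd hP).2 h1)).dvd_of_dvd_mul_left h

/-- `³D₄(2)`, `p = 7` -/
theorem td_two (hK : Fintype.card K = 2 ^ 3) : IM (7 ^ 2) ↥(twistedD4 K 2) := by
  have hq : IsPrimePow 2 := Nat.prime_two.isPrimePow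
  have hcard := S1067.result hq hK
  obtain ⟨d, ε, hε, ⟨χ, rfl⟩, h⟩ := rel_td (q := 2) (P := 13) (s := 3) (e₃ := 324) hq hK (by norm_num) (by norm_num)
    (by norm_num)
  have hdv := dvd_of_im χ
  rw [hcard] at hdv
  set d := charDegree (χ : ↥(twistedD4 K 2) → ℂ) with hd
  rcases h with ⟨-, h⟩ | ⟨h1, ψ, f, hf, h2, h3⟩
  · exfalso
    push_cast at h
    omega
  · have hψ := dvd_of_im ψ
    rw [hcard] at hψ
    have e1 : d ∣ 2 ^ 12 * 3 ^ 4 * 7 ^ 2 := by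
      refine dvd_of_cong (P := 13) (m := 4 * ε) (by norm_num) (by rcases hε with h | h <;> rw [h] <;> norm_num)
        (by rcases hε with h | h <;> rw [h] <;> norm_num) (hdv.trans (by norm_num)) h1
    have e2 : charDegree (ψ : ↥(twistedD4 K 2) → ℂ) ∣ 2 ^ 12 * 3 ^ 4 * 7 ^ 2 := by
      refine dvd_of_cong (P := 13) (m := f) (by norm_num) (by rcases hf with h | h <;> rw [h] <;> norm_num)
        (by rcases hf with h | h <;> rw [h] <;> norm_num) (hψ.trans (by norm_num)) h2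
    obtain ⟨ab, c, hab, hc, hdabc⟩ := (Nat.dvd_mul).1 e1
    obtain ⟨a, b, ha, hb, rfl⟩ := (Nat.dvd_mul).1 hab
    obtain ⟨i, hi, rfl⟩ := (Nat.dvd_prime_pow Nat.prime_two).1 ha
    obtain ⟨j, hj, rfl⟩ := (Nat.dvd_prime_pow Nat.prime_three).1 hb
    obtain ⟨k, hk, rfl⟩ := (Nat.dvd_prime_pow (by norm_num)).1 hc
    have hdZ : (d : ℤ) = 2 ^ i * 3 ^ j * 7 ^ k := by rw [← hdabc]; push_cast; rfl
    have h5 := chk2 i (by omega) j (by omega) k (by omega) ε
      (by rcases hε with h | h <;> rw [h] <;> simp) (by rw [← hdZ]; exact Int.emod_eq_zero_of_dvd h1) (by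
        rw [← hdZ]
        apply Int.emod_eq_zero_of_dvd
        have h6 : ε * (d : ℤ) - 3773 = f * charDegree (ψ : ↥(twistedD4 K 2) → ℂ) := by
          rw [← h3]; push_cast; ring
        rw [h6]
        have h7 : ((charDegree (ψ : ↥(twistedD4 K 2) → ℂ) : ℕ) : ℤ) ∣ 16257024 := by
          have := Int.natCast_dvd_natCast.2 e2
          norm_num at this
          exact this
        rcases hf with h | h <;> rw [h]
        · rw [one_mul]; exact h7
        · rw [neg_one_mul, neg_dvd]; exact h7)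
    refine ⟨χ, ?_⟩
    rw [← hdZ] at h5
    have h8 : ((49 : ℕ) : ℤ) ∣ (d : ℤ) := Int.dvd_of_emod_eq_zero h5
    exact Int.natCast_dvd_natCast.1 h8

/-- `³D₄(3)`, `p = 13` -/
theorem td_three (hK : Fintype.card K = 3 ^ 3) : IM (13 ^ 2) ↥(twistedD4 K 3) := by
  have hq : IsPrimePow 3 := Nat.prime_three.isPrimePow
  have hcard := S1067.result hq hK
  obtain ⟨d, ε, hε, ⟨χ, rfl⟩, h⟩ := rel_td (q := 3) (P := 73) (s := 18) (e₃ := 10584) hq hK (by norm_num) (by norm_num)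
    (by norm_num)
  have hdv := dvd_of_im χ
  rw [hcard] at hdv
  set d := charDegree (χ : ↥(twistedD4 K 3) → ℂ) with hd
  rcases h with ⟨h, -⟩ | ⟨h1, ψ, f, hf, h2, h3⟩
  · norm_num at h
  · have hψ := dvd_of_im ψ
    rw [hcard] at hψ
    have e1 : d ∣ 2 ^ 6 * 3 ^ 12 * 7 ^ 2 * 13 ^ 2 := by
      refine dvd_of_cong (P := 73) (m := 4 * ε) (by norm_num) (by rcases hε with h | h <;> rw [h] <;> norm_num)
        (by rcases hε with h | h <;> rw [h] <;> norm_num) (hdv.trans (by norm_num)) h1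
    have e2 : charDegree (ψ : ↥(twistedD4 K 3) → ℂ) ∣ 2 ^ 6 * 3 ^ 12 * 7 ^ 2 * 13 ^ 2 := by
      refine dvd_of_cong (P := 73) (m := f) (by norm_num) (by rcases hf with h | h <;> rw [h] <;> norm_num)
        (by rcases hf with h | h <;> rw [h] <;> norm_num) (hψ.trans (by norm_num)) h2
    obtain ⟨abc, l', habc, hl', hdabc⟩ := (Nat.dvd_mul).1 e1
    obtain ⟨ab, c, hab, hc, rfl⟩ := (Nat.dvd_mul).1 habc
    obtain ⟨a, b, ha, hb, rfl⟩ := (Nat.dvd_mul).1 hab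
    obtain ⟨i, hi, rfl⟩ := (Nat.dvd_prime_pow Nat.prime_two).1 ha
    obtain ⟨j, hj, rfl⟩ := (Nat.dvd_prime_pow Nat.prime_three).1 hb
    obtain ⟨k, hk, rfl⟩ := (Nat.dvd_prime_pow (by norm_num)).1 hc
    obtain ⟨l, hl, rfl⟩ := (Nat.dvd_prime_pow (by norm_num)).1 hl'
    have hdZ : (d : ℤ) = 2 ^ i * 3 ^ j * 7 ^ k * 13 ^ l := by rw [← hdabc]; push_cast; rfl
    have h5 := chk3 i (by omega) j (by omega) k (by omega) l (by omega) ε
      (by rcases hε with h | h <;> rw [h] <;> simp) (by rw [← hdZ]; exact Int.emod_eq_zero_of_dvd h1) (by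
        rw [← hdZ]
        apply Int.emod_eq_zero_of_dvd
        have h6 : ε * (d : ℤ) - 520858 = f * charDegree (ψ : ↥(twistedD4 K 3) → ℂ) := by
          rw [← h3]; push_cast; ring
        rw [h6]
        have h7 : ((charDegree (ψ : ↥(twistedD4 K 3) → ℂ) : ℕ) : ℤ) ∣ 281655226944 := by
          have := Int.natCast_dvd_natCast.2 e2
          norm_num at this
          exact this
        rcases hf with h | h <;> rw [h]
        · rw [one_mul]; exact h7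
        · rw [neg_one_mul, neg_dvd]; exact h7)
    refine ⟨χ, ?_⟩
    rw [← hdZ] at h5
    have h8 : ((169 : ℕ) : ℤ) ∣ (d : ℤ) := Int.dvd_of_emod_eq_zero h5
    exact Int.natCast_dvd_natCast.1 h8

end group

end Cfsg.Agent.H501.PSq
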